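import Cfsg.Agent.Lib.Helper37.U27.Defs
import Cfsg.Agent.Lib.Helper87.U27.WNorm
import Cfsg.Agent.Lib.Helper92.U27.RSub

set_option autoImplicit false

/-!
Package [INVD] of the U27 (S5999) project: the scalar multiples of the non-scalar diagonal
involutions of determinant 1 are conjugate (in `SU_3(q)`) into the normalizer of `R0 w`.
-/

open scoped MatrixGroups Matrix

namespace Cfsg.Agent.Lib.Helper16.U27

open Cfsg.Agent.Lib.Helper37.U27

universe u

variable {F : Type u} [Field F]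

/-- The unit `W`. -/
def Wu (F : Type u) [Field F] : GL (Fin 3) F :=
  ⟨Wm F, Wm F, Cfsg.Agent.Lib.Helper87.U27.wm_mul_wm F, Cfsg.Agent.Lib.Helper87.U27.wm_mul_wm F⟩

theorem Wu_val (F : Type u) [Field F] :
    ((Wu F : GL (Fin 3) F) : Matrix (Fin 3) (Fin 3) F) = Wm F := rfl

theorem Wu_mem_GU (q : ℕ) (hq : Odd q) : Wu F ∈ Cfsg.GU 3 F q := by
  intro a b
  show Cfsg.hermForm 3 F q ((Wu F : Matrix (Fin 3) (Fin 3) F) *ᵥ a)
    ((Wu F : Matrix (Fin 3) (Fin 3) F) *ᵥ b) = Cfsg.hermForm 3 F q a b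
  rw [Wu_val]
  unfold Cfsg.hermForm
  simp [Wm, Matrix.mulVec, dotProduct, Fin.sum_univ_three, hq.neg_pow]
  ring

theorem Wu_mem_SL : Wu F ∈ Cfsg.Geo.specialLinear (Fin 3) F := by
  show Matrix.GeneralLinearGroup.det (Wu F) = 1
  apply Units.ext
  rw [Matrix.GeneralLinearGroup.val_det_apply, Wu_val]
  simp [Wm, Matrix.det_fin_three]

theorem Wu_sq : (Wu F) ^ 2 = 1 := by
  apply Units.ext
  rw [pow_two, Units.val_mul, Wu_val, Units.val_one]
  exact Cfsg.Agent.Lib.Helper87.U27.wm_mul_wm F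

/-- `A g = g B` gives `B g⁻¹ = g⁻¹ A`. -/
theorem conj_transfer (A B : Matrix (Fin 3) (Fin 3) F) (g : GL (Fin 3) F)
    (h : A * (g : Matrix (Fin 3) (Fin 3) F) = (g : Matrix (Fin 3) (Fin 3) F) * B) :
    B * ((g⁻¹ : GL (Fin 3) F) : Matrix (Fin 3) (Fin 3) F) =
      ((g⁻¹ : GL (Fin 3) F) : Matrix (Fin 3) (Fin 3) F) * A := by
  have h1 : ((g⁻¹ : GL (Fin 3) F) : Matrix (Fin 3) (Fin 3) F) * (g : Matrix (Fin 3) (Fin 3) F) = 1 := by
    rw [← Units.val_mul, inv_mul_cancel, Units.val_one]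
  have h2 : (g : Matrix (Fin 3) (Fin 3) F) * ((g⁻¹ : GL (Fin 3) F) : Matrix (Fin 3) (Fin 3) F) = 1 := by
    rw [← Units.val_mul, mul_inv_cancel, Units.val_one]
  calc B * ((g⁻¹ : GL (Fin 3) F) : Matrix (Fin 3) (Fin 3) F)
      = (((g⁻¹ : GL (Fin 3) F) : Matrix (Fin 3) (Fin 3) F) * (g : Matrix (Fin 3) (Fin 3) F)) * B *
          ((g⁻¹ : GL (Fin 3) F) : Matrix (Fin 3) (Fin 3) F) := by rw [h1, Matrix.one_mul]
    _ = ((g⁻¹ : GL (Fin 3) F) : Matrix (Fin 3) (Fin 3) F) * (A * (g : Matrix (Fin 3) (Fin 3) F)) *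
          ((g⁻¹ : GL (Fin 3) F) : Matrix (Fin 3) (Fin 3) F) := by rw [h, Matrix.mul_assoc _ _ B]
    _ = ((g⁻¹ : GL (Fin 3) F) : Matrix (Fin 3) (Fin 3) F) * A := by
        rw [Matrix.mul_assoc, Matrix.mul_assoc, h2, Matrix.mul_one]

/-- Chaining intertwining relations. -/
theorem conj_chain (A B C : Matrix (Fin 3) (Fin 3) F) (g h : Matrix (Fin 3) (Fin 3) F)
    (h1 : A * g = g * B) (h2 : B * h = h * C) : A * (g * h) = (g * h) * C := by
  rw [← Matrix.mul_assoc, h1, Matrix.mul_assoc, h2, Matrix.mul_assoc]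

theorem sq_cases (x : F) (h : x ^ 2 = 1) : x = 1 ∨ x = -1 := by
  have h1 : (x - 1) * (x + 1) = 0 := by ring_nf; rw [h]; ring
  rcases mul_eq_zero.mp h1 with h2 | h2
  · left; exact sub_eq_zero.mp h2
  · right; exact eq_neg_of_add_eq_zero_left h2

/-- A non-constant sign vector of product one is a cyclic shift of `(1, -1, -1)`. -/
theorem std_conj (q : ℕ) (e : Fin 3 → F) (h2 : (2 : F) ≠ 0) (he2 : ∀ i, e i ^ 2 = 1)
    (hprod : e 0 * e 1 * e 2 = 1) (hnc : ¬ (e 0 = e 1 ∧ e 1 = e 2)) :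
    ∃ P ∈ Gp F q, Matrix.diagonal e * (P : Matrix (Fin 3) (Fin 3) F) =
      (P : Matrix (Fin 3) (Fin 3) F) * Matrix.diagonal ![1, -1, -1] := by
  have hne : (-1 : F) ≠ 1 := by
    intro h
    apply h2
    have : (2 : F) = 1 - (-1) := by ring
    rw [this, h]; ring
  have hXG : Cfsg.Agent.Lib.Helper87.U27.Xu F ∈ Gp F q :=
    ⟨Cfsg.Agent.Lib.Helper92.U27.Xm_mem_GU q _ rfl, Cfsg.Agent.Lib.Helper92.U27.Xm_mem_SL _ rfl⟩
  rcases sq_cases _ (he2 0) with h0 | h0 <;> rcases sq_cases _ (he2 1) with h1 | h1 <;>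
    rcases sq_cases _ (he2 2) with h2' | h2'
  · exact absurd ⟨h0.trans h1.symm, h1.trans h2'.symm⟩ hnc
  · rw [h0, h1, h2'] at hprod
    exact absurd (by simpa using hprod) hne
  · rw [h0, h1, h2'] at hprod
    exact absurd (by simpa using hprod) hne
  · refine ⟨1, Subgroup.one_mem _, ?_⟩
    have he : e = ![1, -1, -1] := by
      funext i; fin_cases i <;> simp [h0, h1, h2']
    rw [he, Units.val_one, Matrix.mul_one, Matrix.one_mul]
  · rw [h0, h1, h2'] at hprod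
    exact absurd (by simpa using hprod) hne
  · refine ⟨Cfsg.Agent.Lib.Helper87.U27.Xu F, hXG, ?_⟩
    have he : e = ![-1, 1, -1] := by
      funext i; fin_cases i <;> simp [h0, h1, h2']
    rw [he, Cfsg.Agent.Lib.Helper87.U27.Xu_val]
    ext a b
    fin_cases a <;> fin_cases b <;>
      simp [Xm, Matrix.mul_apply, Fin.sum_univ_three, Matrix.diagonal_apply]
  · refine ⟨Cfsg.Agent.Lib.Helper87.U27.Xu F * Cfsg.Agent.Lib.Helper87.U27.Xu F,
      Subgroup.mul_mem _ hXG hXG, ?_⟩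
    have he : e = ![-1, -1, 1] := by
      funext i; fin_cases i <;> simp [h0, h1, h2']
    rw [he, Units.val_mul, Cfsg.Agent.Lib.Helper87.U27.Xu_val]
    ext a b
    fin_cases a <;> fin_cases b <;>
      simp [Xm, Matrix.mul_apply, Fin.sum_univ_three, Matrix.diagonal_apply]
  · rw [h0, h1, h2'] at hprod
    exact absurd (by simpa using hprod) hne

theorem two_ne_zero_of_odd [Fintype F] (q : ℕ) (hF : Fintype.card F = q ^ 2) (hq : Odd q) :
    (2 : F) ≠ 0 := by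
  intro h
  have h1 : ringChar F = 2 := CharP.ringChar_of_prime_eq_zero Nat.prime_two (by exact_mod_cast h)
  have h2 := FiniteField.even_card_of_char_two h1
  rw [hF] at h2
  have h3 : Odd (q ^ 2) := hq.pow
  rw [Nat.odd_iff] at h3
  omega

/-- Package [INVD]. -/
theorem pkgInvD_of (hU : PkgUDiag.{u}) (hW : PkgWNorm.{u}) : PkgInvD.{u} := by
  intro F _ _ q w n c d hF hq h3 hw h3F hd2 hprod hnc hn
  have h2F : (2 : F) ≠ 0 := two_ne_zero_of_odd q hF hq
  have h2q : 2 ∣ q + 1 := even_iff_two_dvd.mp hq.add_one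
  obtain ⟨k2, hk2, d', hd'2, hk2d⟩ := hU F q 2 (Wu F) hF (by norm_num) h2q (Wu_mem_GU q hq) Wu_sq
  -- `W k2 = k2 diag(d')`
  have e1 : Wm F * (k2 : Matrix (Fin 3) (Fin 3) F) =
      (k2 : Matrix (Fin 3) (Fin 3) F) * Matrix.diagonal d' := by
    rw [← hk2d, Units.val_mul, Units.val_mul, Wu_val, ← Matrix.mul_assoc, ← Matrix.mul_assoc,
      ← Units.val_mul, mul_inv_cancel, Units.val_one, Matrix.one_mul]
  have hk2det : (k2 : Matrix (Fin 3) (Fin 3) F).det ≠ 0 :=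
    ((Matrix.isUnit_iff_isUnit_det _).mp (Units.isUnit k2)).ne_zero
  have hWdet : (Wm F).det = 1 := by simp [Wm, Matrix.det_fin_three]
  have hprod' : d' 0 * d' 1 * d' 2 = 1 := by
    have := congrArg Matrix.det e1
    rw [Matrix.det_mul, Matrix.det_mul, hWdet, Matrix.det_diagonal, Fin.prod_univ_three, one_mul] at this
    have h5 : (k2 : Matrix (Fin 3) (Fin 3) F).det * 1 =
        (k2 : Matrix (Fin 3) (Fin 3) F).det * (d' 0 * d' 1 * d' 2) := by rw [mul_one]; exact this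
    exact (mul_left_cancel₀ hk2det h5).symm
  have hnc' : ¬ (d' 0 = d' 1 ∧ d' 1 = d' 2) := by
    rintro ⟨h01, h12⟩
    have hdd : Matrix.diagonal d' = d' 0 • (1 : Matrix (Fin 3) (Fin 3) F) := by
      ext a b
      fin_cases a <;> fin_cases b <;> simp [Matrix.diagonal_apply, Matrix.one_apply, ← h12, ← h01]
    rw [hdd, Matrix.mul_smul, Matrix.mul_one] at e1
    have e2 : Wm F = d' 0 • (1 : Matrix (Fin 3) (Fin 3) F) := by
      have h6 := congrArg (fun M => M * ((k2⁻¹ : GL (Fin 3) F) : Matrix (Fin 3) (Fin 3) F)) e1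
      simp only [Matrix.mul_assoc, Matrix.smul_mul] at h6
      rw [← Units.val_mul, mul_inv_cancel, Units.val_one, Matrix.mul_one] at h6
      exact h6
    have h7 := congrFun (congrFun e2 1) 2
    simp [Wm, Matrix.one_apply] at h7
  obtain ⟨P, hP, hPd⟩ := std_conj q d h2F hd2 hprod hnc
  obtain ⟨P', hP', hP'd⟩ := std_conj q d' h2F hd'2 hprod' hnc'
  have c1 := conj_transfer _ _ P' hP'd
  have c2 := conj_transfer _ _ k2 e1
  have c3 := conj_chain _ _ _ _ _ hPd c1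
  have c4 := conj_chain _ _ _ _ _ c3 c2
  set k : GL (Fin 3) F := P * P'⁻¹ * k2⁻¹ with hk
  have hkv : (k : Matrix (Fin 3) (Fin 3) F) = (P : Matrix (Fin 3) (Fin 3) F) *
      ((P'⁻¹ : GL (Fin 3) F) : Matrix (Fin 3) (Fin 3) F) *
      ((k2⁻¹ : GL (Fin 3) F) : Matrix (Fin 3) (Fin 3) F) := by
    rw [hk, Units.val_mul, Units.val_mul]
  rw [← hkv] at c4
  refine ⟨k, Subgroup.mul_mem _ (Subgroup.mul_mem _ hP (Subgroup.inv_mem _ hP'))
    (Subgroup.inv_mem _ hk2), ?_⟩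
  apply hW F w _ c hw h3F
  rw [Units.val_mul, Units.val_mul, Matrix.mul_assoc, hn, Matrix.smul_mul, c4, ← Matrix.mul_smul,
    ← Matrix.mul_assoc, ← Units.val_mul, inv_mul_cancel, Units.val_one, Matrix.one_mul]

end Cfsg.Agent.Lib.Helper16.U27
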