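import Cfsg.Agent.Lib.Helper37.U27.Defs
import Cfsg.Agent.Lib.Helper45.HermSU

set_option autoImplicit false

/-!
Package [UDIAG] of the U27 (S5999) project: unitary diagonalization by a matrix of `SU_3(q)`.
-/

open scoped MatrixGroups Matrix

namespace Cfsg.Agent.Lib.Helper16.U27

open Cfsg.Agent.Lib.Helper37.U27 Cfsg.Agent.Lib.Helper45

universe u

/-- Two matrices with the same columns are equal. -/
theorem mat_ext_cols {F : Type u} [Field F] {M N : Matrix (Fin 3) (Fin 3) F}
    (h : ∀ i, M *ᵥ Pi.single i 1 = N *ᵥ Pi.single i 1) : M = N := by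
  ext a i
  have := congrFun (h i) a
  rw [Matrix.mulVec_single_one, Matrix.mulVec_single_one] at this
  exact this

/-- Package [UDIAG]. -/
theorem pkgUDiag_of (hO : PkgONEB.{u}) (hC : PkgCols.{u}) : PkgUDiag.{u} := by
  intro F _ _ q m y hF hm hmq hy hym
  obtain ⟨v, d, hON, hd, hyv⟩ := hO F q m y hF hm hmq hy hym
  obtain ⟨g, hg, hgv⟩ := hC F q v hF hON
  have hgI : IsHermIso 3 F q (g : Matrix (Fin 3) (Fin 3) F) := hg
  -- `y g = g diag(d)`
  have h1 : (y : Matrix (Fin 3) (Fin 3) F) * (g : Matrix (Fin 3) (Fin 3) F) =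
      (g : Matrix (Fin 3) (Fin 3) F) * Matrix.diagonal d := by
    apply mat_ext_cols
    intro i
    rw [← Matrix.mulVec_mulVec, ← Matrix.mulVec_mulVec, hgv i, hyv i,
      Matrix.diagonal_mulVec_single, mul_one]
    have : (Pi.single i (d i) : Fin 3 → F) = d i • Pi.single i 1 := by
      rw [← Pi.single_smul, smul_eq_mul, mul_one]
    rw [this, Matrix.mulVec_smul, hgv i]
  set δ : F := (g : Matrix (Fin 3) (Fin 3) F).det with hδ
  have hδ1 : δ ^ (q + 1) = 1 := isHermIso_det hF hgI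
  have hδ0 : δ ≠ 0 := by
    rintro h
    rw [h, zero_pow (by omega)] at hδ1
    exact zero_ne_one hδ1
  set e : Fin 3 → F := ![δ⁻¹, 1, 1] with he
  have heI : IsHermIso 3 F q (Matrix.diagonal e) := by
    apply isHermIso_diagonal
    intro i
    fin_cases i
    · simp [he, inv_pow, hδ1]
    · simp [he]
    · simp [he]
  have hedet : (Matrix.diagonal e).det = δ⁻¹ := by
    rw [Matrix.det_diagonal, Fin.prod_univ_three]
    simp [he]
  set Du : GL (Fin 3) F := (isHermIso_isUnit hF heI).unit with hDu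
  have hDuv : (Du : Matrix (Fin 3) (Fin 3) F) = Matrix.diagonal e := IsUnit.unit_spec _
  have hDuGU : Du ∈ Cfsg.GU 3 F q := by
    change IsHermIso 3 F q (Du : Matrix (Fin 3) (Fin 3) F)
    rw [hDuv]
    exact heI
  set k : GL (Fin 3) F := g * Du with hk
  have hkv : (k : Matrix (Fin 3) (Fin 3) F) =
      (g : Matrix (Fin 3) (Fin 3) F) * Matrix.diagonal e := by
    rw [hk, Units.val_mul, hDuv]
  have hkGU : k ∈ Cfsg.GU 3 F q := Subgroup.mul_mem _ hg hDuGU
  have hkSL : k ∈ Cfsg.Geo.specialLinear (Fin 3) F := by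
    change k ∈ (Matrix.GeneralLinearGroup.det : GL (Fin 3) F →* Fˣ).ker
    rw [MonoidHom.mem_ker]
    apply Units.ext
    rw [Matrix.GeneralLinearGroup.val_det_apply, hkv, Matrix.det_mul, hedet, ← hδ]
    simp [hδ0]
  have h2 : (y : Matrix (Fin 3) (Fin 3) F) * (k : Matrix (Fin 3) (Fin 3) F) =
      (k : Matrix (Fin 3) (Fin 3) F) * Matrix.diagonal d := by
    rw [hkv, ← mul_assoc, h1, mul_assoc, mul_assoc]
    congr 1
    rw [Matrix.diagonal_mul_diagonal, Matrix.diagonal_mul_diagonal]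
    congr 1
    funext i
    ring
  refine ⟨k, ⟨hkGU, hkSL⟩, d, hd, ?_⟩
  rw [Units.val_mul, Units.val_mul, mul_assoc, h2, ← mul_assoc, ← Units.val_mul, inv_mul_cancel,
    Units.val_one, one_mul]

end Cfsg.Agent.Lib.Helper16.U27
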